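import Cfsg.Agent.OD.Pre
import Cfsg.Agent.H6.Top2
import Cfsg.Agent.H6.J2A.D0
set_option autoImplicit false
set_option maxRecDepth 100000
set_option Elab.async false
set_option linter.all false
namespace CfH6.J2A
open CfH6 MulAction
noncomputable def n0_0 : Net := mkNet (nat_lit 320) [(nat_lit 160, k0), (nat_lit 80, k1), (nat_lit 40, k2), (nat_lit 20, k3), (nat_lit 10, k4), (nat_lit 5, k5)] [(k6, nat_lit 1), (k7, nat_lit 1), (k8, nat_lit 1), (k9, nat_lit 1), (k10, nat_lit 1)]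
noncomputable def n0_1 : Net := mkNet (nat_lit 320) [(nat_lit 160, k11), (nat_lit 80, k12), (nat_lit 40, k13), (nat_lit 20, k14), (nat_lit 10, k15), (nat_lit 5, k16)] [(k17, nat_lit 1), (k18, nat_lit 1), (k19, nat_lit 1), (k20, nat_lit 1), (k21, nat_lit 1)]
noncomputable def n0_2 : Net := revNet n0_1
noncomputable def n0_3 : Net := mkNet (nat_lit 320) [(nat_lit 160, k22), (nat_lit 80, k23), (nat_lit 40, k24), (nat_lit 20, k25), (nat_lit 10, k26), (nat_lit 5, k27)] [(k28, nat_lit 1), (k29, nat_lit 1), (k30, nat_lit 1), (k31, nat_lit 1), (k32, nat_lit 1)]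
noncomputable def n0_4 : Net := mkNet (nat_lit 320) [(nat_lit 160, k33), (nat_lit 80, k34), (nat_lit 40, k35), (nat_lit 20, k36), (nat_lit 10, k37), (nat_lit 5, k38)] [(k39, nat_lit 1), (k40, nat_lit 1), (k41, nat_lit 1), (k42, nat_lit 1), (k43, nat_lit 1)]
noncomputable def n0_5 : Net := mkNet (nat_lit 320) [(nat_lit 160, k44), (nat_lit 80, k45), (nat_lit 40, k46), (nat_lit 20, k47), (nat_lit 10, k48), (nat_lit 5, k49)] [(k50, nat_lit 1), (k51, nat_lit 1), (k52, nat_lit 1), (k53, nat_lit 1), (k54, nat_lit 1)]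
noncomputable def n0_6 : Net := revNet n0_5
noncomputable def n0_7 : Net := mkNet (nat_lit 320) [(nat_lit 160, k55), (nat_lit 80, k56), (nat_lit 40, k57), (nat_lit 20, k58), (nat_lit 10, k59), (nat_lit 5, k60)] [(k61, nat_lit 1), (k62, nat_lit 1), (k63, nat_lit 1), (k64, nat_lit 1), (k65, nat_lit 1)]
noncomputable def n1_5 : Net := mkNet (nat_lit 320) [(nat_lit 160, k66), (nat_lit 80, k67), (nat_lit 40, k68), (nat_lit 20, k69), (nat_lit 10, k70), (nat_lit 5, k71)] [(k72, nat_lit 1), (k73, nat_lit 1), (k74, nat_lit 1), (k75, nat_lit 1), (k76, nat_lit 1)]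
noncomputable def n2_0 : Net := mkNet (nat_lit 48) [(nat_lit 24, (nat_lit 0x300450440104)), (nat_lit 12, (nat_lit 0xe8072041881c)), (nat_lit 6, (nat_lit 0x43cf9e484a92)), (nat_lit 3, (nat_lit 0x198f1c684822))] [((nat_lit 0x41248201208), nat_lit 1), ((nat_lit 0x82482482480), nat_lit 1), ((nat_lit 0x200000040), nat_lit 1)]
noncomputable def n2_1 : Net := mkNet (nat_lit 48) [(nat_lit 24, (nat_lit 0x200000200)), (nat_lit 12, (nat_lit 0xff0ff0800800)), (nat_lit 6, (nat_lit 0xc50000840410)), (nat_lit 3, (nat_lit 0xda4e00924000))] [((nat_lit 0x49240241200), nat_lit 1), ((nat_lit 0x482492082082), nat_lit 1), ((nat_lit 0x41240041000), nat_lit 1)]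
noncomputable def n3_0 : Net := mkNet (nat_lit 5) [] [((nat_lit 0x2), nat_lit 1)]
noncomputable def nets0 : List Net := [n0_0, n0_1, n0_2, n0_3, n0_4, n0_5, n0_6, n0_7]
noncomputable def nets1 : List Net := [n0_5, n0_1, n0_0, n0_3, n0_7, n1_5]
def ws1 : List (List ℕ) := [[5],
  [1],
  [0],
  [3],
  [7],
  [4, 5, 7, 3, 0, 1, 4, 7, 3, 0, 4, 2, 7, 3, 4, 7, 4]]
noncomputable def nets2 : List Net := [n2_0, n2_1]
def ws2 : List (List ℕ) := [[0, 3, 1, 4, 5, 1],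
  [4]]
noncomputable def nets3 : List Net := [n3_0]
def ws3 : List (List ℕ) := [[0, 0, 0, 0, 1]]
def sig : List (List ℕ) := [[0],
  [1],
  [2],
  [3],
  [4],
  [5],
  [6],
  [7]]
def eqs0 : List (List ℕ × List ℕ) := [([0, 0], []),
  ([1, 2], []),
  ([3, 3], []),
  ([4, 4], []),
  ([5, 6], []),
  ([7, 7], []),
  ([1, 1], [2]),
  ([0, 1, 0], [2, 0, 2]),
  ([3, 1], [2, 3]),
  ([3, 0, 3], [0, 3, 0]),
  ([5, 5], [6]),
  ([4, 5, 4], [6, 4, 6]),
  ([4, 0], [0, 4]),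
  ([4, 2], [2, 4]),
  ([4, 3], [3, 4]),
  ([6, 0], [0, 6]),
  ([6, 2], [2, 6]),
  ([6, 3], [3, 6]),
  ([7, 6], [6, 7]),
  ([7, 0], [0, 7]),
  ([7, 1, 7], [5, 2]),
  ([4, 7, 4, 7, 4], [0, 7, 4, 7]),
  ([7, 3, 7], [3, 7, 3])]
def eqs : List (List ℕ × List ℕ) := eqs0
def lU : List (ℕ × ℕ) := [(0, 280)]
noncomputable def U : ℕ := ivls lU
def l1 : List (ℕ × ℕ) := [(1, 2), (5, 10), (48, 24)]
noncomputable def S1 : ℕ := ivls l1
def w1 : List ℕ := [4]
def l2 : List (ℕ × ℕ) := [(3, 1), (15, 14), (72, 120)]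
noncomputable def S2 : ℕ := ivls l2
def w2 : List ℕ := [4, 7, 4]
def l3 : List (ℕ × ℕ) := [(4, 1), (29, 19), (192, 88)]
noncomputable def S3 : ℕ := ivls l3
def w3 : List ℕ := [4, 7, 4, 3, 7, 5, 4]
noncomputable def J : List (List ℕ × ℕ × ℕ) := [(w1, 1, S1), (w2, 3, S2), (w3, 192, S3)]
def lBig : List (ℕ × ℕ) := [(3, 2), (15, 33), (72, 208)]
noncomputable def J3 : List (List ℕ × ℕ × ℕ) := [([4, 0, 0, 0], 3, S2), ([0], 192, S3)]
noncomputable def J2 : List (List ℕ × ℕ × ℕ) := [([0], 3, S2), ([2, 0, 4, 2, 1, 0], 192, S3)]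
noncomputable def J1 : List (List ℕ × ℕ × ℕ) := [([0, 5, 0], 3, S2), ([1, 6, 0, 6, 5, 0], 192, S3)]
def ex : List (List ℕ) := [[5, 0, 7, 4, 3]]
def bs' : List ℕ := [0, 3, 4, 1]
end CfH6.J2A
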